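import Groth.Prelude.Def_FinFr
import Groth.Agent.DescentBase.HpullViaComp
import Groth.Agent.Misc6.FrobEt.Theta
import Groth.Agent.Misc6.FrobRoot.Basic

/-! Pullback of constant-coefficient cohomology along endomorphisms: functoriality, and powers of Frobenius act trivially. -/

set_option autoImplicit false
universe u
open CategoryTheory CategoryTheory.Limits AlgebraicGeometry Opposite
open Groth.AlgGrp1.FrobPow

noncomputable section

namespace Groth.Agent.Misc6.FrobEt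

variable [Fact FinFr.PullExact.{u}] {Λ : Type} [CommRing Λ]

theorem map_HpullVia {X Y Z : Scheme.{u}} (f : X ⟶ Y) (t : Y ⟶ Z) (f₀ : X ⟶ Z) (w : f ≫ t = f₀)
    [PreservesFiniteLimits (EtCoh.pull f)] (n : ℕ)
    (x : EtCoh.H Y ((EtCoh.pull t).obj (EtCoh.const Z Λ)) n) :
    Sheaf.H.map (EtCore.pullConst f₀ Λ).hom n (EtCore.HpullVia f t f₀ w (EtCoh.const Z Λ) n x) =
      Sheaf.H.map (EtCore.pullConst f Λ).hom n
        (EtCore.Hpull f (EtCoh.const Y Λ) n (Sheaf.H.map (EtCore.pullConst t Λ).hom n x)) := by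
  subst w
  rw [EtCore.Hpull_natural, ← Sheaf.H.map_comp_apply]
  change Sheaf.H.map (EtCore.pullConst (f ≫ t) Λ).hom n
    (Sheaf.H.map (((EtCore.pullComp f t).symm ≪≫ EtCore.pullCongr rfl).hom.app (EtCoh.const Z Λ)) n
      (EtCore.Hpull f _ n x)) = _
  rw [← Sheaf.H.map_comp_apply]
  refine congrArg (fun ψ => Sheaf.H.map ψ n (EtCore.Hpull f _ n x)) ?_
  have h := EtaleBase.pullConstIso_comp f t (AddCommGrpCat.of (ULift.{u + 1} Λ))
  rw [Iso.trans_hom, NatTrans.comp_app, Iso.symm_hom]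
  simp only [EtCore.pullCongr, eqToIso_refl, Iso.refl_hom, NatTrans.id_app]
  rw [Category.comp_id]
  show (EtCore.pullComp f t).inv.app _ ≫ (EtCore.pullConstIso (f ≫ t)).hom.app _ =
    (EtCoh.pull f).map ((EtCore.pullConstIso t).hom.app _) ≫ (EtCore.pullConstIso f).hom.app _
  rw [← cancel_epi ((EtCoh.pull f).map ((EtCore.pullConstIso t).inv.app _)),
    ← cancel_epi ((EtCore.pullConstIso f).inv.app (AddCommGrpCat.of (ULift.{u + 1} Λ)))]
  rw [← Category.assoc ((EtCoh.pull f).map _), ← Category.assoc, h]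
  rw [← Functor.map_comp_assoc]
  simp

theorem endConstAdd_comp {X : Scheme.{u}} (f h : X ⟶ X) (n : ℕ) (y : EtCoh.H X (EtCoh.const X Λ) n) :
    FinFr.endConstAdd (Λ := Λ) (f ≫ h) n y =
      FinFr.endConstAdd (Λ := Λ) f n (FinFr.endConstAdd (Λ := Λ) h n y) := by
  haveI := FinFr.pullExact_out f
  haveI := FinFr.pullExact_out h
  haveI := FinFr.pullExact_out (f ≫ h)
  obtain ⟨x, rfl⟩ : ∃ x, y = Sheaf.H.map (EtCore.pullConst (𝟙 X) Λ).hom n x :=
    ⟨Sheaf.H.map (EtCore.pullConst (𝟙 X) Λ).inv n y, by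
      rw [← Sheaf.H.map_comp_apply, Iso.inv_hom_id, Sheaf.H.map_id_apply]⟩
  simp only [FinFr.endConstAdd, AddMonoidHom.coe_comp, Function.comp_apply]
  rw [← map_HpullVia (f ≫ h) (𝟙 X) (f ≫ h) (Category.comp_id _) n x,
    ← map_HpullVia h (𝟙 X) h (Category.comp_id _) n x,
    ← map_HpullVia f h (f ≫ h) rfl n]
  rw [DescentBase.HpullVia_comp f h (𝟙 X) h (f ≫ h) (Category.comp_id _) rfl (Category.comp_id _)]

theorem endConstAdd_id {X : Scheme.{u}} (n : ℕ) (y : EtCoh.H X (EtCoh.const X Λ) n) :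
    FinFr.endConstAdd (Λ := Λ) (𝟙 X) n y = y := by
  haveI := FinFr.pullExact_out (𝟙 X)
  obtain ⟨x, rfl⟩ : ∃ x, y = Sheaf.H.map (EtCore.pullConst (𝟙 X) Λ).hom n x :=
    ⟨Sheaf.H.map (EtCore.pullConst (𝟙 X) Λ).inv n y, by
      rw [← Sheaf.H.map_comp_apply, Iso.inv_hom_id, Sheaf.H.map_id_apply]⟩
  simp only [FinFr.endConstAdd, AddMonoidHom.coe_comp, Function.comp_apply]
  rw [← map_HpullVia (𝟙 X) (𝟙 X) (𝟙 X) (Category.comp_id _) n x, DescentBase.HpullVia_id]
  rfl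

theorem endConstAdd_frob (p : ℕ) [Fact p.Prime] (X : Scheme.{u}) [FrobSch.IsCharP X p] (n : ℕ)
    (y : EtCoh.H X (EtCoh.const X Λ) n) :
    FinFr.endConstAdd (Λ := Λ) (FrobSch.frob X p) n y = y := by
  haveI := FinFr.pullExact_out (FrobSch.frob X p)
  exact DFunLike.congr_fun (corr_eq_id (FrobSch.frob X p) (theta p X)
    (EtCore.pullConst (FrobSch.frob X p) Λ).hom (tau_const (FrobSch.frob X p) (theta p X) _) n) y

theorem endConstAdd_Fp (p : ℕ) [Fact p.Prime] (X : Scheme.{u}) [FrobSch.IsCharP X p] (r n : ℕ)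
    (y : EtCoh.H X (EtCoh.const X Λ) n) :
    FinFr.endConstAdd (Λ := Λ) (Fp X p r) n y = y := by
  induction r generalizing y with
  | zero => rw [Fp_zero]; exact endConstAdd_id n y
  | succ r ih => rw [Fp_succ, endConstAdd_comp, endConstAdd_frob, ih]

theorem specMap_eq_Fp (p : ℕ) [Fact p.Prime] (A : Type u) [CommRing A]
    [FrobSch.IsCharP (Spec (CommRingCat.of A)) p] (r : ℕ) (ψ : A →+* A) (hψ : ∀ a, ψ a = a ^ p ^ r) :
    Spec.map (CommRingCat.ofHom ψ) = Fp (Spec (CommRingCat.of A)) p r := by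
  apply ext_of_isAffine
  ext s
  have h1 : (Fp (Spec (CommRingCat.of A)) p r).appTop s = s ^ p ^ r := by
    have h2 := Misc6.FrobRoot.Fp_appLE p (Spec (CommRingCat.of A)) r ⊤ (by simp) s
    refine Eq.trans ?_ h2
    exact congr($((Scheme.Hom.appLE_eq_app (f := Fp (Spec (CommRingCat.of A)) p r) (U := ⊤)).symm) s)
  refine Eq.trans ?_ h1.symm
  apply (Scheme.ΓSpecIso (CommRingCat.of A)).commRingCatIsoToRingEquiv.injective
  refine (congr($(Scheme.ΓSpecIso_naturality (CommRingCat.ofHom ψ)).hom s)).trans ?_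
  exact (hψ _).trans (map_pow (Scheme.ΓSpecIso (CommRingCat.of A)).hom.hom s _).symm

end Groth.Agent.Misc6.FrobEt
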